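import Groth.Agent.LefFF21.Support
import Groth.Agent.Lib.NegTwist.ConnectedFinite
import Groth.Agent.Lib.NormNagata9.Basic
import Groth.Agent.Lib.NeronModel13.Comp
import Groth.Agent.Lib.ProperFib19.DVR
import Groth.Agent.S7616

/-!
# The trace of a component of a finite cover of a neighbourhood on an ample divisor is connected
-/

set_option autoImplicit false
set_option linter.style.haveILetI false
set_option backward.isDefEq.respectTransparency false

universe u

open CategoryTheory CategoryTheory.Limits AlgebraicGeometry TopologicalSpace Opposite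

namespace GrothLib.LefFF21

/-- The closure of a point whose image has closure of dimension at least two meets the preimage of an
ample divisor in a connected set. -/
theorem isConnected_closure_inter (k : Type u) [Field k] {X A : Scheme.{u}} [X.Over (Spec (CommRingCat.of k))]
    [IsProper (X ↘ Spec (CommRingCat.of k))] {L : X.Modules} (hL : CohB1.IsAmple L)
    (s : Coh.structureModule X ⟶ L) (V : X.Opens)
    (hV : ((PicF2.zeroScheme L s).support : Set X) ⊆ V) (p : A ⟶ (V : Scheme.{u})) [IsFinite p] (η : A)
    (hx : (p ≫ V.ι) η ∉ (PicF2.zeroScheme L s).support)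
    (hdim : (2 : WithBot ℕ∞) ≤ topologicalKrullDim (closure ({(p ≫ V.ι) η} : Set X))) :
    _root_.IsConnected (closure {η} ∩ (p ≫ V.ι) ⁻¹' ((PicF2.zeroScheme L s).support : Set X)) := by
  haveI := Euler.isNoetherian_of_proper (X := X) k
  let q : A ⟶ X := p ≫ V.ι
  let h := A.fromSpecResidueField η
  let W := Spec (A.residueField η)
  haveI : QuasiCompact q := inferInstance
  haveI : IsLocallyNoetherian A := LocallyOfFiniteType.isLocallyNoetherian q
  haveI : CompactSpace A := QuasiCompact.compactSpace_of_compactSpace q
  haveI : X.IsSeparated := ⟨by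
    rw [← terminal.comp_from (X ↘ Spec (CommRingCat.of k))]
    infer_instance⟩
  let φ : W ⟶ X := h ≫ q
  haveI : QuasiCompact φ := QuasiCompact.of_comp φ (terminal.from X)
  haveI : QuasiSeparated φ := QuasiSeparated.of_comp φ (terminal.from X)
  have hS : ∀ U : X.affineOpens, CAlg.IsNagata Γ(X, U) := fun U => by
    let g := X ↘ (Spec (CommRingCat.of k))
    let e : U.1 ≤ g ⁻¹ᵁ ⊤ := fun _ _ => trivial
    let ψ : k →+* Γ(X, U.1) := (g.appLE ⊤ U.1 e).hom.comp (Scheme.ΓSpecIso (CommRingCat.of k)).inv.hom
    letI : Algebra k Γ(X, U.1) := ψ.toAlgebra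
    haveI : Algebra.FiniteType k Γ(X, U.1) := by
      show ψ.FiniteType
      exact RingHom.FiniteType.comp (g.finiteType_appLE (isAffineOpen_top _) U.2 e)
        (RingHom.FiniteType.of_surjective _
          (Scheme.ΓSpecIso (CommRingCat.of k)).symm.commRingCatIsoToRingEquiv.surjective)
    exact Groth.Agent.S0566.result k GrothLib.CharRing.isNagata_field _
  let g := φ.fromNormalization
  haveI : Finite W := inferInstanceAs (Finite (PrimeSpectrum (A.residueField η)))
  haveI : IsFinite g := NormNagata9.isFinite_fromNormalization φ hS (locallyFinite_of_finite _) fun w _ => by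
    refine RingHom.EssFiniteType.residueFieldMap ?_
    rw [Scheme.Hom.stalkMap_comp, CommRingCat.hom_comp]
    exact RingHom.EssFiniteType.comp (LocallyOfFiniteType.stalkMap q (h w))
      (RingHom.FiniteType.of_surjective _ (h.stalkMap_surjective w)).essFiniteType
  let N := φ.normalization
  have hN : Pi1.IsNormalScheme N := NeronModel13.isNormalScheme_normalization φ fun c =>
    (ProperFib19.isNormalScheme_spec (R := (A.residueField η : Type u)) c).2
  letI : N.Over (Spec (CommRingCat.of k)) := ⟨g ≫ X ↘ Spec (CommRingCat.of k)⟩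
  haveI : IsProper (N ↘ Spec (CommRingCat.of k)) := inferInstanceAs (IsProper (g ≫ X ↘ Spec (CommRingCat.of k)))
  let w : W := IsLocalRing.closedPoint (A.residueField η)
  have hhw : ∀ w' : W, h w' = η := fun w' => Scheme.fromSpecResidueField_apply η w'
  haveI : Subsingleton W := inferInstanceAs (Subsingleton (PrimeSpectrum (A.residueField η)))
  have hgen : g (genericPoint N) = q η := by
    have e1 : genericPoint N = φ.toNormalization w := by
      refine (genericPoint_spec N).eq (isGenericPoint_def.2 ?_)
      rw [← (φ.toNormalization.denseRange).closure_range]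
      congr 1
      ext z
      refine ⟨?_, ?_⟩
      · rintro rfl; exact ⟨w, rfl⟩
      · rintro ⟨w', rfl⟩; rw [Subsingleton.elim w' w]; rfl
    rw [e1, ← Scheme.Hom.comp_apply, φ.toNormalization_fromNormalization, Scheme.Hom.comp_apply, hhw]
  have hrange : Set.range g = closure {q η} := by
    refine subset_antisymm ?_ (closure_minimal (Set.singleton_subset_iff.2 ⟨_, hgen⟩) g.isClosedMap.isClosed_range)
    rintro _ ⟨n, rfl⟩
    rw [← hgen]
    exact specializes_iff_mem_closure.1 ((genericPoint_specializes n).map g.continuous)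
  have hdimN : (2 : WithBot ℕ∞) ≤ topologicalKrullDim N := by
    refine hdim.trans ?_
    let g' : N → closure ({q η} : Set X) := fun n => ⟨g n, hrange ▸ ⟨n, rfl⟩⟩
    haveI : QuasiSober ↥(closure ({q η} : Set X)) :=
      isClosed_closure.isClosedEmbedding_subtypeVal.quasiSober
    refine NegTwist.topologicalKrullDim_le_of_specializingMap (f := g') ?_ fun z => ?_
    · exact (g.isClosedMap.codRestrict _).specializingMap
    · obtain ⟨n, hn⟩ := hrange.symm.subset z.2
      exact ⟨n, Subtype.ext hn⟩
  have hηloc : g (genericPoint N) ∈ CohB1.genLocus L s := by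
    rw [hgen]
    by_contra hh
    exact hx (by rw [← SetLike.mem_coe, support_zeroScheme hL.1]; exact hh)
  have hcon := NegTwist.isConnected_preimage_compl k hN hdimN g hL s hηloc
  rw [← support_zeroScheme hL.1] at hcon
  -- over the open
  let φ' := pullback.snd φ V.ι
  have H : φ' = (pullback.fst φ V.ι ≫ h) ≫ p := by
    rw [← cancel_mono V.ι, Category.assoc, Category.assoc, ← pullback.condition]
  let d := φ'.normalizationDesc (pullback.fst φ V.ι ≫ h) p H
  let e : φ'.normalization ⟶ N := φ.normalizationPullback V.ι ≫ pullback.fst g V.ι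
  have hcomm : e ≫ g = d ≫ q := by
    show (φ.normalizationPullback V.ι ≫ pullback.fst g V.ι) ≫ g = d ≫ p ≫ V.ι
    rw [Category.assoc, pullback.condition, ← Category.assoc, φ.normalizationPullback_snd, ← Category.assoc,
      φ'.normalizationDesc_comp]
  have hrangee : Set.range e = g ⁻¹' (V : Set X) := by
    show Set.range (φ.normalizationPullback V.ι ≫ pullback.fst g V.ι) = _
    rw [Scheme.Hom.comp_base, TopCat.coe_comp, Set.range_comp,
      show Set.range (φ.normalizationPullback V.ι) = Set.univ from
        Set.range_eq_univ.2 (φ.normalizationPullback V.ι).homeomorph.surjective, Set.image_univ,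
      Scheme.Pullback.range_fst, Scheme.Opens.range_ι]
  let T : Set X := ((PicF2.zeroScheme L s).support : Set X)
  have hS' : e '' (e ⁻¹' (g ⁻¹' T)) = g ⁻¹' T :=
    Set.image_preimage_eq_of_subset (hrangee ▸ Set.preimage_mono hV)
  have hconS : _root_.IsConnected (e ⁻¹' (g ⁻¹' T)) := by
    refine ⟨?_, (e.isOpenEmbedding.isInducing.isPreconnected_image).1 (hS'.symm ▸ hcon.2)⟩
    obtain ⟨n, hn⟩ := hcon.1
    obtain ⟨z, hz, -⟩ := hS'.symm.subset hn
    exact ⟨z, hz⟩
  have hpre : e ⁻¹' (g ⁻¹' T) = d ⁻¹' (q ⁻¹' T) := by
    ext z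
    show g (e z) ∈ T ↔ q (d z) ∈ T
    rw [← Scheme.Hom.comp_apply, hcomm, Scheme.Hom.comp_apply]
  have hranged : Set.range d = closure {η} := by
    have hto : ∀ z, d (φ'.toNormalization z) = η := fun z => by
      rw [← Scheme.Hom.comp_apply, φ'.toNormalization_normalizationDesc, Scheme.Hom.comp_apply, hhw]
    refine subset_antisymm ?_ (closure_minimal (Set.singleton_subset_iff.2 ?_) d.isClosedMap.isClosed_range)
    · refine (d.continuous.range_subset_closure_image_dense φ'.toNormalization.denseRange).trans
        (closure_mono ?_)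
      rintro _ ⟨_, ⟨z, rfl⟩, rfl⟩
      exact hto z
    · have hwV : φ w ∈ (V : Set X) := by
        show (h ≫ p ≫ V.ι) w ∈ (V : Set X)
        rw [Scheme.Hom.comp_apply, Scheme.Hom.comp_apply]
        exact (p (h w)).2
      obtain ⟨z, -⟩ : w ∈ Set.range (pullback.fst φ V.ι) := by
        rw [Scheme.Pullback.range_fst, Scheme.Opens.range_ι]
        exact hwV
      exact ⟨_, hto z⟩
  have him : d '' (e ⁻¹' (g ⁻¹' T)) = closure {η} ∩ q ⁻¹' T := by
    rw [hpre, Set.image_preimage_eq_inter_range, hranged, Set.inter_comm]
  exact him ▸ hconS.image d d.continuous.continuousOn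

end GrothLib.LefFF21
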