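import Groth.Agent.LefFF21.Component
import Groth.Agent.Lib.FEt21.Graph
import Groth.Agent.Lib.CMMor6.Algebra
import Groth.Agent.S0335
import Groth.Agent.Lib.FlatExt.Basic
import Mathlib.Topology.JacobsonSpace

/-!
# Restriction of finite étale covers to an ample divisor is fully faithful
-/

set_option autoImplicit false
set_option linter.style.haveILetI false
set_option backward.isDefEq.respectTransparency false

universe u

open CategoryTheory CategoryTheory.Limits AlgebraicGeometry TopologicalSpace Opposite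

namespace GrothLib.LefFF21

variable (k : Type u) [Field k] {X : Scheme.{u}} [X.Over (Spec (CommRingCat.of k))]
  [IsProper (X ↘ Spec (CommRingCat.of k))] {L : X.Modules} (hL : CohB1.IsAmple L)
  (s : Coh.structureModule X ⟶ L)
  (hd : ∀ x : X, x ∉ (PicF2.zeroScheme L s).support →
    (1 : WithBot ℕ∞) < (LocCoh.depth (X.presheaf.stalk x) (X.presheaf.stalk x) : WithBot ℕ∞) +
      topologicalKrullDim (closure ({x} : Set X)))
  (V : X.Opens) (hV : ((PicF2.zeroScheme L s).support : Set X) ⊆ V)
  {A : Scheme.{u}} (p : A ⟶ (V : Scheme.{u})) [IsFinite p] [Etale p]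

/-- The trace of the zero locus on a cover. -/
abbrev trace : Set A := (p ≫ V.ι) ⁻¹' ((PicF2.zeroScheme L s).support : Set X)

include k hL hd hV in
/-- The trace of the zero locus on every component is connected. -/
theorem isConnected_trace_component {η : A} (hη : closure ({η} : Set A) ∈ irreducibleComponents A) :
    _root_.IsConnected (closure {η} ∩ trace s V p) := by
  let q := p ≫ V.ι
  by_cases hx : q η ∈ (PicF2.zeroScheme L s).support
  · rw [Set.inter_eq_left.2 (closure_minimal (Set.singleton_subset_iff.2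
      (show η ∈ trace s V p from hx))
      ((PicF2.zeroScheme L s).support.isClosed.preimage q.continuous))]
    exact isConnected_singleton.closure
  · haveI := Euler.isNoetherian_of_proper (X := X) k
    refine isConnected_closure_inter k hL s V hV p η hx ?_
    have hmax : ∀ y : X, y ⤳ q η → y = q η := by
      intro y hy
      have hyV : y ∈ V := hy.mem_open V.2 (p η).2
      have hy' : (⟨y, hyV⟩ : (V : Scheme.{u})) ⤳ p η :=
        V.ι.isOpenEmbedding.isInducing.specializes_iff.1 hy
      obtain ⟨η', hη', he⟩ := Flat.generalizingMap p hy'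
      have : closure ({η} : Set A) = closure {η'} := by
        refine subset_antisymm (closure_minimal (Set.singleton_subset_iff.2
          (specializes_iff_mem_closure.1 hη')) isClosed_closure) ?_
        exact hη.2 isIrreducible_singleton.closure (closure_minimal (Set.singleton_subset_iff.2
          (specializes_iff_mem_closure.1 hη')) isClosed_closure)
      have : η' = η := (inseparable_iff_closure_eq.2 this).eq.symm
      subst this
      exact (congrArg Subtype.val he).symm
    have hco : Order.coheight (q η) = 0 :=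
      Order.coheight_eq_zero.2 fun y hy => by
        rw [hmax y hy]
    have h0 : LocCoh.depth (X.presheaf.stalk (q η)) (X.presheaf.stalk (q η)) = 0 := by
      have h := CMMor6.depth_le_dim (X.presheaf.stalk (q η))
      rw [ringKrullDim_stalk_eq_coheight, hco] at h
      exact nonpos_iff_eq_zero.1 (WithBot.coe_le_coe.1 h)
    have h1 := hd _ hx
    rw [h0] at h1
    simp only [WithBot.coe_zero, zero_add] at h1
    change (1 : WithBot ℕ∞) < topologicalKrullDim (closure ({q η} : Set X)) at h1
    revert h1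
    generalize topologicalKrullDim (closure ({q η} : Set X)) = d
    intro h1
    cases d with
    | bot => simp at h1
    | coe d =>
      have h2 : (1 : ℕ∞) < d := WithBot.coe_lt_coe.1 h1
      exact WithBot.coe_le_coe.2 (Order.add_one_le_of_lt h2)

include k hL hd hV in
/-- Nonempty open and closed subsets meet the trace. -/
theorem eq_empty_of_disjoint {D : Set A} (hD : IsClopen D) (h : D ∩ trace s V p = ∅) : D = ∅ := by
  refine Set.eq_empty_of_forall_notMem fun z hz => ?_
  obtain ⟨η, hη⟩ := QuasiSober.sober (α := A) (isIrreducible_irreducibleComponent (x := z))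
    isClosed_irreducibleComponent
  have hc : closure ({η} : Set A) ∈ irreducibleComponents A := by
    rw [hη.def]; exact irreducibleComponent_mem_irreducibleComponents z
  have hηD : η ∈ D := (hη.specializes mem_irreducibleComponent).mem_open hD.2 hz
  obtain ⟨w, hw, hwT⟩ := (isConnected_trace_component k hL s hd V hV p hc).1
  exact Set.eq_empty_iff_forall_notMem.1 h w
    ⟨(closure_minimal (Set.singleton_subset_iff.2 hηD) hD.1) hw, hwT⟩

include k hL hd hV in
/-- Open and closed subsets of the trace extend. -/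
theorem exists_clopen_extension {D : Set A} (hD : IsClosed D) (hD' : IsClosed (trace s V p \ D))
    (hDT : D ⊆ trace s V p) : ∃ E : Set A, IsClopen E ∧ E ∩ trace s V p = D := by
  classical
  haveI := Euler.isNoetherian_of_proper (X := X) k
  let q := p ≫ V.ι
  let T := trace s V p
  have hT : IsClosed T := (PicF2.zeroScheme L s).support.isClosed.preimage q.continuous
  haveI : IsLocallyNoetherian A := LocallyOfFiniteType.isLocallyNoetherian q
  haveI : CompactSpace A := QuasiCompact.compactSpace_of_compactSpace q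
  haveI : IsNoetherian A := {}
  haveI hJX : JacobsonSpace X := LocallyOfFiniteType.jacobsonSpace (X ↘ Spec (CommRingCat.of k))
  haveI : JacobsonSpace A := LocallyOfFiniteType.jacobsonSpace (q ≫ X ↘ Spec (CommRingCat.of k))
  let I : Set (Set A) := {C ∈ irreducibleComponents A | C ∩ T ⊆ D}
  let J : Set (Set A) := {C ∈ irreducibleComponents A | ¬ C ∩ T ⊆ D}
  have hfin := NoetherianSpace.finite_irreducibleComponents (α := A)
  have hcl : ∀ S : Set (Set A), S ⊆ irreducibleComponents A → IsClosed (⋃₀ S) := fun S hS => by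
    rw [Set.sUnion_eq_biUnion]
    exact (hfin.subset hS).isClosed_biUnion fun C hC => isClosed_of_mem_irreducibleComponents C (hS hC)
  have hE : IsClosed (⋃₀ I) := hcl I fun C hC => hC.1
  have hF : IsClosed (⋃₀ J) := hcl J fun C hC => hC.1
  have hcon : ∀ C ∈ irreducibleComponents A, _root_.IsConnected (C ∩ T) := fun C hC => by
    obtain ⟨η, hη⟩ := QuasiSober.sober (α := A) hC.1 (isClosed_of_mem_irreducibleComponents C hC)
    rw [← hη.def]
    exact isConnected_trace_component k hL s hd V hV p (hη.def.symm ▸ hC)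
  have hcover : ∀ z, z ∈ ⋃₀ I ∨ z ∈ ⋃₀ J := fun z => by
    have hC := irreducibleComponent_mem_irreducibleComponents z
    by_cases h : irreducibleComponent z ∩ T ⊆ D
    · exact Or.inl ⟨_, ⟨hC, h⟩, mem_irreducibleComponent⟩
    · exact Or.inr ⟨_, ⟨hC, h⟩, mem_irreducibleComponent⟩
  have hJD : ∀ z ∈ ⋃₀ J, z ∈ T → z ∉ D := by
    rintro z ⟨C, ⟨hC, hnot⟩, hzC⟩ hzT hzD
    refine hnot fun w hw => ?_
    by_contra hwD
    obtain ⟨v, hv, hv1, hv2⟩ := isPreconnected_closed_iff.1 (hcon C hC).2 D (T \ D) hD hD'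
      (fun v hv => (em (v ∈ D)).imp id fun h => ⟨hv.2, h⟩)
      ⟨z, ⟨hzC, hzT⟩, hzD⟩ ⟨w, hw, hw.2, hwD⟩
    exact hv2.2 hv1
  have hID : ∀ z ∈ ⋃₀ I, z ∈ T → z ∈ D := by
    rintro z ⟨C, ⟨-, hC⟩, hzC⟩ hzT
    exact hC ⟨hzC, hzT⟩
  -- the two parts do not meet
  have hnoT : ∀ z, z ∈ ⋃₀ I → z ∈ ⋃₀ J → z ∉ T := fun z h1 h2 h3 => hJD z h2 h3 (hID z h1 h3)
  have hclosedpt : ∀ z, z ∈ ⋃₀ I → z ∈ ⋃₀ J → IsClosed ({z} : Set A) := by
    intro z h1 h2
    by_contra hz
    have hqz : ¬ IsClosed ({q z} : Set X) := fun hc => hz (by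
      have hfib : (q ⁻¹' {q z}).Finite := by
        refine (p.finite_preimage_singleton (p z)).subset fun w hw => ?_
        exact Subtype.ext (show (p w).1 = (p z).1 from hw)
      have hcl : IsClosed (q ⁻¹' {q z}) := hc.preimage q.continuous
      haveI : Finite ↥(q ⁻¹' {q z}) := hfib.to_subtype
      haveI : JacobsonSpace ↥(q ⁻¹' {q z}) := JacobsonSpace.of_isClosedEmbedding hcl.isClosedEmbedding_subtypeVal
      have := hcl.isClosedEmbedding_subtypeVal.isClosedMap _ (isClosed_discrete ({⟨z, rfl⟩} : Set ↥(q ⁻¹' {q z})))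
      simpa using this)
    obtain ⟨y, hy, hyz⟩ := exists_specializes_mem_support k hL s hqz
    obtain ⟨z', hzz', hz'⟩ := p.isClosedMap.specializingMap
      (show p z ⤳ (⟨y, hV hy⟩ : (V : Scheme.{u})) from V.ι.isOpenEmbedding.isInducing.specializes_iff.1 hyz)
    refine hnoT z' (hE.closure_subset_iff.2 (Set.singleton_subset_iff.2 h1) (specializes_iff_mem_closure.1 hzz'))
      (hF.closure_subset_iff.2 (Set.singleton_subset_iff.2 h2) (specializes_iff_mem_closure.1 hzz')) ?_
    show q z' ∈ ((PicF2.zeroScheme L s).support : Set X)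
    rw [show q z' = y from congrArg Subtype.val hz']
    exact hy
  have hdisj : ∀ z, z ∈ ⋃₀ I → z ∉ ⋃₀ J := by
    intro z h1 h2
    have hzc := hclosedpt z h1 h2
    have hzT := hnoT z h1 h2
    have hqc : IsClosed ({q z} : Set X) := by
      have hpz : IsClosed ({p z} : Set (V : Scheme.{u})) := by
        simpa using p.isClosedMap _ hzc
      have : p z ∈ closedPoints (V : Scheme.{u}) := hpz
      rw [← V.ι.isOpenEmbedding.preimage_closedPoints] at this
      exact this
    have hdx : (2 : ℕ∞) ≤ LocCoh.depth (X.presheaf.stalk (q z)) (X.presheaf.stalk (q z)) := by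
      have h := hd _ hzT
      have hdim : topologicalKrullDim (closure ({q z} : Set X)) ≤ 0 := by
        rw [hqc.closure_eq]
        haveI : Subsingleton ↥({q z} : Set X) := ⟨fun a b => Subtype.ext (a.2.trans b.2.symm)⟩
        haveI : Subsingleton (IrreducibleCloseds ↥({q z} : Set X)) :=
          ⟨fun C D => IrreducibleCloseds.ext (Subsingleton.eq_univ_of_nonempty C.isIrreducible.1 |>.trans
            (Subsingleton.eq_univ_of_nonempty D.isIrreducible.1).symm)⟩
        exact Order.krullDim_nonpos_of_subsingleton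
      have h' := h.trans_le (add_le_add le_rfl hdim)
      rw [add_zero] at h'
      exact Order.add_one_le_of_lt (WithBot.coe_lt_coe.1 h')
    let R := A.presheaf.stalk z
    have hdz : (2 : ℕ∞) ≤ LocCoh.depth R R := by
      letI := (q.stalkMap z).hom.toAlgebra
      haveI : Module.Flat (X.presheaf.stalk (q z)) R := Flat.stalkMap q z
      haveI : IsLocalHom (algebraMap (X.presheaf.stalk (q z)) R) :=
        inferInstanceAs (IsLocalHom (q.stalkMap z).hom)
      exact hdx.trans (GrothLib.FlatExt.depth_le_of_flat_local _ R)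
    have hP := Groth.Agent.S0335.result R hdz
    let ι' := A.fromSpecStalk z
    have hcp : ι' (IsLocalRing.closedPoint R) = z := A.fromSpecStalk_closedPoint
    have hinj : Function.Injective ι' := ι'.isEmbedding.injective
    have hgen : ∀ S, S ∈ irreducibleComponents A → z ∈ S → ∃ x : PrimeSpectrum R,
        x.asIdeal ≠ IsLocalRing.maximalIdeal R ∧ ι' x ∈ S := by
      intro S hS hzS
      obtain ⟨η, hη⟩ := QuasiSober.sober (α := A) hS.1 (isClosed_of_mem_irreducibleComponents S hS)
      obtain ⟨x, hx⟩ : η ∈ Set.range ι' := by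
        rw [A.range_fromSpecStalk]
        exact hη.specializes hzS
      refine ⟨x, fun hxm => ?_, hx ▸ hη.mem⟩
      have hxc : x = IsLocalRing.closedPoint R := PrimeSpectrum.ext hxm
      rw [hxc, hcp] at hx
      obtain ⟨w, hw, hwT⟩ := (hcon S hS).1
      rw [← hη.def, ← hx, hzc.closure_eq, Set.mem_singleton_iff] at hw
      exact hzT (hw ▸ hwT)
    obtain ⟨C₁, hC₁, hz₁⟩ := h1
    obtain ⟨C₂, hC₂, hz₂⟩ := h2
    obtain ⟨x₁, hx₁, hx₁'⟩ := hgen C₁ hC₁.1 hz₁
    obtain ⟨x₂, hx₂, hx₂'⟩ := hgen C₂ hC₂.1 hz₂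
    obtain ⟨x, hx, hxI, hxJ⟩ := isPreconnected_closed_iff.1 hP.2 (ι' ⁻¹' ⋃₀ I) (ι' ⁻¹' ⋃₀ J)
      (hE.preimage ι'.continuous) (hF.preimage ι'.continuous) (fun v _ => hcover (ι' v))
      ⟨x₁, hx₁, C₁, hC₁, hx₁'⟩ ⟨x₂, hx₂, C₂, hC₂, hx₂'⟩
    have hwz : ι' x ⤳ z := by
      have : ι' x ∈ Set.range ι' := ⟨x, rfl⟩
      rwa [A.range_fromSpecStalk] at this
    have : ι' x = z := by
      have := (hclosedpt _ hxI hxJ).closure_eq ▸ specializes_iff_mem_closure.1 hwz
      exact (Set.mem_singleton_iff.1 this).symm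
    exact hx (congrArg PrimeSpectrum.asIdeal (hinj (this.trans hcp.symm)))
  refine ⟨⋃₀ I, ⟨hE, ?_⟩, ?_⟩
  · rw [show ⋃₀ I = (⋃₀ J)ᶜ from Set.ext fun z => ⟨hdisj z, fun h => (hcover z).resolve_right h⟩]
    exact hF.isOpen_compl
  · refine subset_antisymm (fun z hz => hID z hz.1 hz.2) fun z hz => ?_
    exact ⟨(hcover z).resolve_right fun h => hJD z h (hDT hz) hz, hDT hz⟩

end GrothLib.LefFF21
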