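import Groth.Agent.Lib.Jets.ZeroIdeal
import Groth.Agent.Lib.Snapper.Positive
import Groth.Agent.Lib.Ref1.Rank
import Groth.Agent.Lib.Ref1.Unit
import Groth.Agent.Lib.LefAmp7.Points
import Groth.Agent.Lib.Ample.Criterion

/-!
# The support of the zero scheme of a section of an invertible module
-/

set_option autoImplicit false
set_option linter.style.haveILetI false
set_option backward.isDefEq.respectTransparency false

universe u

open CategoryTheory CategoryTheory.Limits AlgebraicGeometry TopologicalSpace Opposite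
open GrothLib.InvExt (mres IsGen)

namespace GrothLib.LefFF21

variable {X : Scheme.{u}} {L : X.Modules}

/-- The zero scheme of a section lives off the generation locus. -/
theorem support_zeroScheme (hL : PicF.IsInvertible L) (s : Coh.structureModule X ⟶ L) :
    ((PicF2.zeroScheme L s).support : Set X) = ((CohB1.genLocus L s : X.Opens) : Set X)ᶜ := by
  ext x
  obtain ⟨V, e₀, hxV, he₀⟩ := InvExt.exists_gen_nhd hL x
  obtain ⟨U, hU, hxU, hUV⟩ := exists_isAffineOpen_mem_and_subset hxV
  let e := mres L hUV e₀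
  have he : IsGen L U e := he₀.restrict hUV
  obtain ⟨r, hr⟩ := he.exists_smul_eq le_rfl (show Γ(L, U) from PicF2.secVal L s U)
  rw [InvExt.mres_self] at hr
  have hsupp : x ∈ (PicF2.zeroScheme L s).support ↔ x ∉ X.basicOpen r := by
    rw [Scheme.IdealSheafData.mem_support_iff_of_mem (U := ⟨U, hU⟩) hxU,
      Jets.zeroScheme_ideal_gen hL s ⟨U, hU⟩ he hr, Scheme.zeroLocus_span, Scheme.mem_zeroLocus_iff]
    simp
  have hval : ∀ y (hy : y ∈ U) (a : X.presheaf.stalk y),
      QCoh.stalkLin s y (a • HomSh.unitStalk y 1) =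
        (a * X.presheaf.germ U y hy r) • L.presheaf.germ U y hy e := by
    intro y hy a
    rw [map_smul, mul_smul]
    congr 1
    rw [← Mero.germ_smul, ← hr]
    refine Eq.trans ?_ (QCoh.stalkLin_germ s hy (show Γ(Coh.structureModule X, U) from (1 : Γ(X, U))))
    congr 1
    refine (one_smul (X.presheaf.stalk y) _).trans ?_
    rw [← TopCat.Presheaf.germ_res_apply (Coh.structureModule X).presheaf (homOfLE le_top) y hy]
    refine congrArg ((Coh.structureModule X).presheaf.germ U y hy) ?_
    exact map_one (X.presheaf.map (homOfLE (le_top : U ≤ ⊤)).op).hom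
  have hbij : ∀ y (hy : y ∈ U), IsUnit (X.presheaf.germ U y hy r) ↔ Function.Bijective (QCoh.stalkLin s y) := by
    intro y hy
    have hgu := Ref1.gen_unitStalk (X := X) y
    have hge : Ref1.Gen L y (L.presheaf.germ U y hy e) := Ref1.gen_of_isGen he hy
    constructor
    · intro hu
      refine ⟨fun v w hvw => ?_, fun w => ?_⟩
      · obtain ⟨a, rfl⟩ := hgu.2 v
        obtain ⟨b, rfl⟩ := hgu.2 w
        dsimp only at hvw ⊢
        rw [hval y hy a, hval y hy b] at hvw
        rw [hu.mul_right_cancel (hge.1 hvw)]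
      · obtain ⟨b, rfl⟩ := hge.2 w
        obtain ⟨v, hv⟩ := hu.exists_left_inv
        refine ⟨(b * v) • HomSh.unitStalk y 1, ?_⟩
        dsimp only
        rw [hval y hy, mul_assoc, hv, mul_one]
    · intro hb
      obtain ⟨v, hv⟩ := hb.2 (L.presheaf.germ U y hy e)
      obtain ⟨a, rfl⟩ := hgu.2 v
      dsimp only at hv
      rw [hval y hy] at hv
      exact IsUnit.of_mul_eq_one_right a (hge.1 (hv.trans (one_smul _ _).symm))
  rw [SetLike.mem_coe, hsupp, Set.mem_compl_iff, SetLike.mem_coe]
  refine not_congr ⟨fun h => ?_, fun h => ?_⟩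
  · exact Snapper.le_genLocus s (X.basicOpen r)
      (fun y hy => (hbij y (X.basicOpen_le r hy)).1 ((X.mem_basicOpen r y (X.basicOpen_le r hy)).1 hy)) h
  · exact (X.mem_basicOpen r x hxU).2 ((hbij x hxU).2 (Snapper.stalk_bijective_of_mem_genLocus s h))

/-- On a proper scheme a nonclosed point has a specialization in the zero locus of a section of an
ample module. -/
theorem exists_specializes_mem_support (k : Type u) [Field k] [X.Over (Spec (CommRingCat.of k))]
    [IsProper (X ↘ Spec (CommRingCat.of k))] (hL : CohB1.IsAmple L) (s : Coh.structureModule X ⟶ L)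
    {x : X} (hx : ¬ IsClosed ({x} : Set X)) : ∃ y ∈ (PicF2.zeroScheme L s).support, x ⤳ y := by
  by_contra hne
  push Not at hne
  haveI := hL.2.1
  obtain ⟨c, ⟨e⟩⟩ := Ample.exists_cocycle hL.1
  obtain ⟨a, ha⟩ := c.exists_sect_of_section e s
  haveI : (c.locus a : Scheme.{u}).IsQuasiAffine := c.isQuasiAffine_locus ((c.isAmple_iff e).1 hL).2 (n := 0) a
  refine hx (LefAmp7.isClosed_of_closure_subset k (c.locus a) fun z hz => ?_)
  by_contra hzl
  refine hne z ?_ (specializes_iff_mem_closure.2 hz)
  rw [← SetLike.mem_coe, support_zeroScheme hL.1, ← ha]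
  exact hzl

end GrothLib.LefFF21
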